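import Mathlib
import Cfsg.Agent.Lib.Helper9.TC2Spor
import Cfsg.Agent.Lib.Helper9.TC2Word
import Cfsg.Agent.Lib.Helper9.TCData.S62B0.Cert

set_option autoImplicit false
set_option maxRecDepth 1000000

/-! A presentation of `Sp(6,2)` on two generators `u`, `v` of orders 5 and 7, and a presentation
of a central extension: the relators of the simple group become central of order dividing 144. -/

namespace Cfsg.Agent.Helper9.Sp62

open Cfsg Cfsg.Agent.Helper9 Cfsg.Agent.Helper9.TC2 Cfsg.Agent.Helper9.TCData Cfsg.Spor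

/-- The free group. -/
abbrev FG : Type := FreeGroup (Fin 2)

/-- The first generator. -/
def u : FG := FreeGroup.of 0
/-- The second generator. -/
def v : FG := FreeGroup.of 1

/-- The relators of the simple group. -/
def R : Fin 12 → FG := ![
  v⁻¹ * v⁻¹ * u⁻¹ * u⁻¹ * v⁻¹ * u * v⁻¹ * v⁻¹ * u⁻¹ * u⁻¹ * v⁻¹ * u,
  v⁻¹ * u⁻¹ * v⁻¹ * u⁻¹ * v⁻¹ * u⁻¹ * v⁻¹ * u⁻¹ * v⁻¹ * u⁻¹ * v⁻¹ * u⁻¹,
  v⁻¹ * v⁻¹ * u⁻¹ * u⁻¹ * v⁻¹ * u * v⁻¹ * v⁻¹ * u * u * u * v⁻¹ * u,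
  v⁻¹ * v⁻¹ * u⁻¹ * v⁻¹ * u⁻¹ * u⁻¹ * v * u * v⁻¹ * u⁻¹ * v⁻¹ * u⁻¹ * v * u⁻¹ * v⁻¹ * u⁻¹,
  v⁻¹ * v⁻¹ * u⁻¹ * v⁻¹ * u * v⁻¹ * u⁻¹ * u⁻¹ * v⁻¹ * v⁻¹ * u⁻¹ * v⁻¹ * u * v⁻¹ * u⁻¹ * u⁻¹,
  v⁻¹ * v⁻¹ * u * u * v * u⁻¹ * v * u⁻¹ * v⁻¹ * v⁻¹ * u * u * v * u⁻¹ * v * u⁻¹,
  v⁻¹ * u⁻¹ * u⁻¹ * v⁻¹ * u * v * u⁻¹ * u⁻¹ * v⁻¹ * u⁻¹ * u⁻¹ * v⁻¹ * u * v * u * u * u,
  v⁻¹ * u⁻¹ * u⁻¹ * v⁻¹ * u * v * u⁻¹ * u⁻¹ * v⁻¹ * u * u * u * v⁻¹ * u * v * u⁻¹ * u⁻¹,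
  v⁻¹ * v⁻¹ * u⁻¹ * v⁻¹ * u⁻¹ * v⁻¹ * u * v * u * v * u⁻¹ * v⁻¹ * v⁻¹ * u * v * u * v * u⁻¹,
  v⁻¹ * v⁻¹ * u⁻¹ * u⁻¹ * v * v * u * v * u * v⁻¹ * v⁻¹ * u * v⁻¹ * v⁻¹ * u⁻¹ * v * u * u,
  v⁻¹ * v⁻¹ * u⁻¹ * v * u * v * u * v⁻¹ * u⁻¹ * v⁻¹ * v⁻¹ * u⁻¹ * v * u * v * u * v⁻¹ * u⁻¹,
  v⁻¹ * u⁻¹ * v⁻¹ * u⁻¹ * u⁻¹ * v⁻¹ * u⁻¹ * v * u * v⁻¹ * u⁻¹ * v⁻¹ * u⁻¹ * u⁻¹ * v⁻¹ * u⁻¹ * v * u]

/-- Commutators of words. -/
def cm (r x : FG) : FG := r * x * r⁻¹ * x⁻¹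

/-- The relators of the covering group. -/
def extraC : List FG := [u ^ 5, v ^ 7] ++ (List.finRange 12).map (fun j => R j ^ 144) ++
  (List.finRange 12).map (fun j => cm (R j) u) ++ (List.finRange 12).map (fun j => cm (R j) v)

theorem extraG_eq : S62B0.extra = [u ^ 5, v ^ 7] ++ (List.finRange 12).map R := by
  decide +kernel

theorem extraG_eq' : S62B0.extra = [u ^ 5, v ^ 7, R 0, R 1, R 2, R 3, R 4, R 5, R 6, R 7, R 8,
    R 9, R 10, R 11] := by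
  decide +kernel

/-- The relators of the covering group. -/
abbrev relsC : Set FG := relSet ([] : List (Fin 2 × ℕ × Fin 2)) extraC

/-- The relators of the simple group. -/
abbrev relsG : Set FG := relSet S62B0.edges S62B0.extra

/-- The covering group. -/
abbrev PC : Type := PresentedGroup relsC

/-- The simple group. -/
abbrev PS62 : Type := PresentedGroup relsG

theorem mem_relsC {r : FG} (h : r ∈ extraC) : r ∈ relsC := Or.inr h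

theorem mem_relsG {r : FG} (h : r ∈ S62B0.extra) : r ∈ relsG := Or.inr h

theorem relsC_cases {r : FG} (h : r ∈ relsC) : r ∈ extraC := by
  rcases h with h | h
  · obtain ⟨x, hx, -⟩ := h
    exact absurd hx (by simp [coxNodes])
  · exact h

theorem relsG_cases {r : FG} (h : r ∈ relsG) : r ∈ S62B0.extra := by
  rcases h with h | h
  · obtain ⟨x, hx, -⟩ := h
    exact absurd hx (by simp [coxNodes, S62B0.edges])
  · exact h

theorem extraC_cases {r : FG} (h : r ∈ extraC) :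
    r = u ^ 5 ∨ r = v ^ 7 ∨ (∃ j, r = R j ^ 144) ∨ (∃ j, r = cm (R j) u) ∨ ∃ j, r = cm (R j) v := by
  unfold extraC at h
  simp only [List.mem_append, List.mem_cons, List.not_mem_nil, or_false, List.mem_map,
    List.mem_finRange, true_and] at h
  rcases h with (((h | h) | ⟨j, hj⟩) | ⟨j, hj⟩) | ⟨j, hj⟩
  · exact Or.inl h
  · exact Or.inr (Or.inl h)
  · exact Or.inr (Or.inr (Or.inl ⟨j, hj.symm⟩))
  · exact Or.inr (Or.inr (Or.inr (Or.inl ⟨j, hj.symm⟩)))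
  · exact Or.inr (Or.inr (Or.inr (Or.inr ⟨j, hj.symm⟩)))

theorem u5_mem : u ^ 5 ∈ extraC := by
  unfold extraC
  simp

theorem v7_mem : v ^ 7 ∈ extraC := by
  unfold extraC
  simp

theorem Rpow_mem (j : Fin 12) : R j ^ 144 ∈ extraC := by
  unfold extraC
  simp only [List.mem_append, List.mem_map, List.mem_finRange, true_and]
  exact Or.inl (Or.inl (Or.inr ⟨j, rfl⟩))

theorem cmu_mem (j : Fin 12) : cm (R j) u ∈ extraC := by
  unfold extraC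
  simp only [List.mem_append, List.mem_map, List.mem_finRange, true_and]
  exact Or.inl (Or.inr ⟨j, rfl⟩)

theorem cmv_mem (j : Fin 12) : cm (R j) v ∈ extraC := by
  unfold extraC
  simp only [List.mem_append, List.mem_map, List.mem_finRange, true_and]
  exact Or.inr ⟨j, rfl⟩

theorem extraG_cases {r : FG} (h : r ∈ S62B0.extra) : r = u ^ 5 ∨ r = v ^ 7 ∨ ∃ j, r = R j := by
  rw [extraG_eq] at h
  simp only [List.mem_append, List.mem_cons, List.not_mem_nil, or_false, List.mem_map,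
    List.mem_finRange, true_and] at h
  rcases h with (h | h) | ⟨j, hj⟩
  · exact Or.inl h
  · exact Or.inr (Or.inl h)
  · exact Or.inr (Or.inr ⟨j, hj.symm⟩)

theorem u5_memG : u ^ 5 ∈ S62B0.extra := by
  rw [extraG_eq]
  simp

theorem v7_memG : v ^ 7 ∈ S62B0.extra := by
  rw [extraG_eq]
  simp

theorem R_memG (j : Fin 12) : R j ∈ S62B0.extra := by
  rw [extraG_eq]
  simp only [List.mem_append, List.mem_map, List.mem_finRange, true_and]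
  exact Or.inr ⟨j, rfl⟩

/-- The columns. -/
abbrev cols : List (Fin 2 × Bool) := S62B0.cols

theorem colsOK : ColsOK ([] : List (Fin 2 × ℕ × Fin 2)) cols :=
  ⟨by decide, by decide, by decide, by decide⟩

theorem colsOKG : ColsOK S62B0.edges cols :=
  ⟨by decide, by decide, by decide, by decide⟩

end Cfsg.Agent.Helper9.Sp62
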