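import Mathlib
import Cfsg.Agent.Lib.Helper9.Sp62.Defs
import Cfsg.Agent.Lib.Helper9.LTCIndex
import Cfsg.Agent.Lib.Helper9.TC2Cyc
import Cfsg.Agent.Lib.Helper9.TCData.S62P0.All

set_option autoImplicit false
set_option maxRecDepth 1000000

/-! The order of the presented group of `Sp62.Defs` is at most 1451520: the labelled coset table
over the subgroup generated by `v`, read with trivial central elements. -/

namespace Cfsg.Agent.Helper9.Sp62

open Cfsg Cfsg.Agent.Helper9 Cfsg.Agent.Helper9.TC2 Cfsg.Agent.Helper9.TCData Cfsg.Spor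
  Cfsg.Agent.Helper9.LTC Cfsg.Agent.Helper9.LTCM Cfsg.Agent.Helper9.LTCP
open scoped IsMulCommutative

theorem hrelW : S62P0.relWords = S62B0.extra.map (colWord cols) := by
  decide +kernel

theorem hrelL : S62P0.relLabs = [[], [], unitV 0, unitV 1, unitV 2, unitV 3, unitV 4, unitV 5,
    unitV 6, unitV 7, unitV 8, unitV 9, unitV 10, unitV 11] := by
  decide +kernel

theorem inv_eq : ∀ c < 4, S62P0.tab.inv c = invCol cols c := by decide

theorem inv_lt : ∀ c < S62P0.tab.k, S62P0.tab.inv c < S62P0.tab.k := by decide

/-- The columns in the simple group. -/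
noncomputable def eG : ℕ → PS62 := eCol S62B0.edges S62B0.extra cols

/-- The subgroup of the simple group. -/
abbrev HG : Subgroup PS62 := coxH S62B0.edges S62B0.extra {s | s ∈ [v]}

theorem prod_eG (r : FG) : ((colWord cols r).map eG).prod = PresentedGroup.mk relsG r :=
  prod_colWord_eCol colsOKG r

theorem zeta_one {P : Type*} [Group P] (d : ℕ) (f : ℕ → ℤ) :
    zeta (fun _ => (1 : Subgroup.center P)) d f = 1 := by
  unfold zeta
  apply Finset.prod_eq_one
  intro i _
  rw [one_zpow]

theorem hrelG (j : ℕ) : ((S62P0.relWords.getD j []).map eG).prod =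
    (zeta (fun _ => (1 : Subgroup.center PS62)) S62P0.tab.d
      (vec (S62P0.relLabs.getD j [])) : PS62) := by
  rw [zeta_one, hrelW]
  show _ = (1 : PS62)
  have e : ([] : List ℕ) = colWord cols (1 : FG) := rfl
  rw [e, List.getD_map, prod_eG]
  by_cases hj : j < S62B0.extra.length
  · rw [List.getD_eq_getElem _ _ hj]
    exact PresentedGroup.one_of_mem (mem_relsG (List.getElem_mem hj))
  · rw [List.getD_eq_default _ _ (not_lt.1 hj), map_one]

/-- The interpretation of the labelled table in the simple group. -/
noncomputable def interpG : LInterp HG S62P0.tab where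
  e := eG
  zc := fun _ => 1
  e_inv := by
    intro c hc
    have hl : c < cols.length := hc
    rw [inv_eq c hc, eG, eCol_invCol colsOKG hl, mul_inv_cancel]
  rot_ok := rot_ok_of_chkP S62P0.tab eG (fun _ => 1) S62P0.relWords S62P0.relLabs S62P0.rotSrc
    S62P0.rot_src hrelG
  hcols_ok := by
    intro c hc
    have hc2 : c = 2 := by simpa [S62P0.tab, S62P0.ptab, LTCP.PTab.toLTab] using hc
    subst hc2
    have hl : 2 < cols.length := by decide
    rw [eG, eCol_of_lt hl]
    exact Subgroup.mem_map_of_mem _ (Subgroup.subset_closure (by simp [cols, S62B0.cols, v]; rfl))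
  free_ok := by
    intro i hi
    exact absurd hi (by show ¬ (12 + i < 12); omega)

theorem hgenG : Subgroup.closure {g | ∃ c < S62P0.tab.k, g = interpG.e c} = ⊤ := by
  rw [eq_top_iff, ← PresentedGroup.closure_range_of, Subgroup.closure_le]
  rintro _ ⟨a, rfl⟩
  apply Subgroup.subset_closure
  fin_cases a
  · refine ⟨0, by decide, ?_⟩
    show _ = eG 0
    rw [eG, eCol_of_lt (by decide : 0 < cols.length)]
    rfl
  · refine ⟨2, by decide, ?_⟩
    show _ = eG 2
    rw [eG, eCol_of_lt (by decide : 2 < cols.length)]
    rfl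

/-- The presented group is finite of order at most 1451520. -/
theorem hub : Finite PS62 ∧ Nat.card PS62 ≤ 1451520 := by
  have hH := card_coxH_single_le (edges := S62B0.edges) (extra := S62B0.extra) v 7 (by decide)
    (mem_relsG v7_memG)
  have := hH.1
  have h := card_le interpG (q := 144) (fun _ => rfl) S62P0.h0 (by decide) S62P0.hE inv_lt hgenG
    hH.2
  exact ⟨h.1, h.2⟩

end Cfsg.Agent.Helper9.Sp62
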