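import Mathlib
import Cfsg.Agent.Lib.Helper9.TC2Spor
import Cfsg.Agent.Lib.Helper9.TC2Cyc
import Cfsg.Agent.Lib.Helper9.Sp62.Hub
import Cfsg.Agent.Lib.Helper9.TCData.S62B0.Cert
import Cfsg.Agent.Lib.Helper9.TCData.S62CX.Cert

set_option autoImplicit false
set_option maxRecDepth 1000000

/-! The group presented on two generators `u`, `v` of orders 5 and 7 in `Sp62.Defs` is simple of
order 1451520 (it is the group `Sp(6,2)`). -/

namespace Cfsg.Agent.Helper9.Sp62

open Cfsg.Agent.Helper9 Cfsg.Agent.Helper9.TC2 Cfsg.Agent.Helper9.TCData Cfsg.Spor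

theorem hslp : ∀ j < S62B0.slp.length, ∀ c ∈ (S62B0.slp.getD j (0, [])).2, c < S62B0.tab.k + j := by
  decide +kernel

theorem hok : S62B0.cert.LevsOK (S62B0.tab.k + S62B0.slp.length) S62B0.lidx S62B0.lpar S62B0.lgi 0 []
    S62B0.levs := by
  unfold S62B0.levs
  refine ⟨by decide, by decide +kernel, S62B0.hT0, by decide +kernel, ?_⟩
  refine ⟨by decide, by decide +kernel, S62B0.hT1, by decide +kernel, ?_⟩
  refine ⟨by decide, by decide +kernel, S62B0.hT2, by decide +kernel, ?_⟩
  refine ⟨by decide, by decide +kernel, S62B0.hT3, by decide +kernel, ?_⟩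
  refine ⟨by decide, by decide +kernel, S62B0.hT4, by decide +kernel, ?_⟩
  refine ⟨by decide, by decide +kernel, S62B0.hT5, by decide +kernel, ?_⟩
  trivial

theorem hprod : CoxCert.levProd S62B0.levs = 1451520 := by decide +kernel

theorem hlab : ∀ i < S62B0.cert.D.n, S62B0.orb.lab i < 3 := by
  intro i hi
  have := S62B0.hOL i hi
  rwa [Nat.blt_eq] at this

theorem hroot : ∀ l < 3, S62B0.orb.root l < S62B0.cert.D.n ∧ S62B0.orb.lab (S62B0.orb.root l) = l := by
  decide +kernel

theorem hsz : ∀ l < 3, cnt (fun i => Nat.beq (S62B0.orb.lab i) l) S62B0.cert.D.n =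
    ([1, 32, 30] : List ℕ).getD l 0 := by
  decide +kernel

theorem hsub : ∀ T ∈ (Finset.range 3).powerset, 0 ∈ T →
    (∑ l ∈ T, ([1, 32, 30] : List ℕ).getD l 0) ∣ S62B0.cert.D.n →
    T = {0} ∨ T = Finset.range 3 := by
  decide +kernel

theorem hxw : colWord S62B0.cert.cols S62CX.xelt = S62B0.xw := by decide +kernel

theorem hx : ∀ i < S62B0.cert.D.n,
    (runT S62B0.cert.D (colWord S62B0.cert.cols S62CX.xelt))^[7 ^ 1] i = i := by
  intro i hi
  rw [hxw]
  exact Nat.eq_of_beq_eq_true (S62B0.hX i hi)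

/-- The presented group is simple of order 1451520. -/
theorem s62_simple : IsSimpleGroup PS62 ∧ Nat.card PS62 = 1451520 := by
  have : Fact (Nat.Prime 7) := ⟨by norm_num⟩
  exact S62B0.cert.isSimple_card 1451520 hub S62B0.slp hslp S62B0.hSlp S62B0.lidx S62B0.lpar S62B0.lgi
    S62B0.levs hok hprod S62B0.orb S62B0.hO1 S62B0.hO2 3 0 [1, 32, 30] hlab hroot hsz
    (by decide +kernel) (by decide) (by decide) hsub 7 1 (by decide) (by norm_num) (by norm_num)
    S62CX.xelt 1 hx (by
      have h := (S62CX.cert.card_eq_of_nil (by intro s hs; exact absurd hs (by simp [S62CX.sgensL]))).2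
      rw [S62CX.cert_n] at h
      exact h)

end Cfsg.Agent.Helper9.Sp62
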