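import Mathlib

set_option autoImplicit false
set_option maxRecDepth 100000

/-! Vectors and matrices of size 6 over the field with two elements, indexed by `Fin 3 ⊕ Fin 3`.
Families of symplectic matrices and the values of words in them. -/

namespace Cfsg.Agent.Helper9.Vec6F2

open Matrix

/-- The index type. -/
abbrev I6 : Type := Fin 3 ⊕ Fin 3

/-- The entries of a vector. -/
structure V6 where
  x0 : ZMod 2
  x1 : ZMod 2
  x2 : ZMod 2
  x3 : ZMod 2
  x4 : ZMod 2
  x5 : ZMod 2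
deriving DecidableEq

/-- The vector of the entries. -/
def V6.toVec (v : V6) : I6 → ZMod 2 :=
  Sum.elim ![v.x0, v.x1, v.x2] ![v.x3, v.x4, v.x5]

/-- The product of a row and a column. -/
def dot (r v : V6) : ZMod 2 :=
  r.x0 * v.x0 + r.x1 * v.x1 + r.x2 * v.x2 + r.x3 * v.x3 + r.x4 * v.x4 + r.x5 * v.x5

/-- The rows of a matrix. -/
structure M6 where
  r0 : V6
  r1 : V6
  r2 : V6
  r3 : V6
  r4 : V6
  r5 : V6

/-- The product of a matrix and a column. -/
def M6.app (M : M6) (v : V6) : V6 :=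
  ⟨dot M.r0 v, dot M.r1 v, dot M.r2 v, dot M.r3 v, dot M.r4 v, dot M.r5 v⟩

/-- The matrix of the rows. -/
def M6.toMat (M : M6) : Matrix I6 I6 (ZMod 2) := Matrix.of
  (Sum.elim ![M.r0.toVec, M.r1.toVec, M.r2.toVec] ![M.r3.toVec, M.r4.toVec, M.r5.toVec])

theorem dot_eq (r v : V6) : dot r v = r.toVec ⬝ᵥ v.toVec := by
  simp only [dot, dotProduct, V6.toVec, Fintype.sum_sum_type, Sum.elim_inl, Sum.elim_inr,
    Fin.sum_univ_succ, Fin.sum_univ_zero, Matrix.cons_val_zero, Matrix.cons_val_succ, add_zero]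
  ring

theorem toMat_mulVec (M : M6) (v : V6) : M.toMat *ᵥ v.toVec = (M.app v).toVec := by
  ext i
  rcases i with i | i <;> fin_cases i <;> exact (dot_eq _ _).symm

/-- The basis vectors. -/
def bas : I6 → V6 := Sum.elim
  ![⟨1, 0, 0, 0, 0, 0⟩, ⟨0, 1, 0, 0, 0, 0⟩, ⟨0, 0, 1, 0, 0, 0⟩]
  ![⟨0, 0, 0, 1, 0, 0⟩, ⟨0, 0, 0, 0, 1, 0⟩, ⟨0, 0, 0, 0, 0, 1⟩]

theorem bas_toVec (j : I6) : (bas j).toVec = Pi.single j 1 := by
  ext i
  rcases j with j | j <;> fin_cases j <;> rcases i with i | i <;> fin_cases i <;>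
    simp [bas, V6.toVec]

/-- Two matrices which agree on the basis vectors are equal. -/
theorem eq_of_bas (A B : Matrix I6 I6 (ZMod 2))
    (h : ∀ j : I6, A *ᵥ (bas j).toVec = B *ᵥ (bas j).toVec) : A = B := by
  ext i j
  have h1 := congrFun (h j) i
  rw [bas_toVec, Matrix.mulVec_single_one, Matrix.mulVec_single_one] at h1
  exact h1

/-- A matrix which fixes the basis vectors is the identity. -/
theorem eq_one_of_bas (A : Matrix I6 I6 (ZMod 2))
    (h : ∀ j : I6, A *ᵥ (bas j).toVec = (bas j).toVec) : A = 1 := by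
  apply eq_of_bas
  intro j
  rw [h j, Matrix.one_mulVec]

theorem toMat_mul_eq_one (A B : M6) (h : ∀ j : I6, A.app (B.app (bas j)) = bas j) :
    A.toMat * B.toMat = 1 := by
  apply eq_one_of_bas
  intro j
  rw [← Matrix.mulVec_mulVec, toMat_mulVec, toMat_mulVec, h j]

section Family

variable {ι : Type} (g gi : ι → M6)

/-- The value of a word in the matrices and their inverses on a vector. -/
def ev : List (ι × Bool) → V6 → V6
  | [], v => v
  | (s, true) :: L, v => (g s).app (ev L v)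
  | (s, false) :: L, v => (gi s).app (ev L v)

variable (hm : ∀ s : ι, (g s).toMat ∈ symplecticGroup (Fin 3) (ZMod 2))
  (hg : ∀ s : ι, ∀ j : I6, (g s).app ((gi s).app (bas j)) = bas j)

/-- The matrices as elements of the symplectic group. -/
def spOf (s : ι) : symplecticGroup (Fin 3) (ZMod 2) := ⟨(g s).toMat, hm s⟩

theorem spOf_val (s : ι) :
    ((spOf g hm s : symplecticGroup (Fin 3) (ZMod 2)) : Matrix I6 I6 (ZMod 2)) = (g s).toMat := rfl

include hg in
theorem spOf_inv_val (s : ι) :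
    (((spOf g hm s)⁻¹ : symplecticGroup (Fin 3) (ZMod 2)) : Matrix I6 I6 (ZMod 2)) =
      (gi s).toMat := by
  have h1 := toMat_mul_eq_one _ _ (hg s)
  have h2 : ((spOf g hm s)⁻¹ * spOf g hm s : symplecticGroup (Fin 3) (ZMod 2)) = 1 :=
    inv_mul_cancel _
  have h3 := congrArg Subtype.val h2
  change (((spOf g hm s)⁻¹ : symplecticGroup (Fin 3) (ZMod 2)) : Matrix I6 I6 (ZMod 2)) *
    (g s).toMat = 1 at h3
  calc (((spOf g hm s)⁻¹ : symplecticGroup (Fin 3) (ZMod 2)) : Matrix I6 I6 (ZMod 2))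
      = (((spOf g hm s)⁻¹ : symplecticGroup (Fin 3) (ZMod 2)) : Matrix I6 I6 (ZMod 2)) *
          ((g s).toMat * (gi s).toMat) := by rw [h1, mul_one]
    _ = (gi s).toMat := by rw [← mul_assoc, h3, one_mul]

include hg in
theorem lift_mulVec (L : List (ι × Bool)) (v : V6) :
    ((FreeGroup.lift (spOf g hm) (FreeGroup.mk L) : symplecticGroup (Fin 3) (ZMod 2)) :
      Matrix I6 I6 (ZMod 2)) *ᵥ v.toVec = (ev g gi L v).toVec := by
  induction L with
  | nil =>
    have h : (FreeGroup.mk [] : FreeGroup ι) = 1 := rfl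
    rw [h, map_one, ev]
    show (1 : Matrix I6 I6 (ZMod 2)) *ᵥ v.toVec = v.toVec
    rw [Matrix.one_mulVec]
  | cons p L ih =>
    obtain ⟨s, b⟩ := p
    have h : (FreeGroup.mk ((s, b) :: L) : FreeGroup ι) =
        FreeGroup.mk [(s, b)] * FreeGroup.mk L := rfl
    rw [h, map_mul]
    show (((FreeGroup.lift (spOf g hm) (FreeGroup.mk [(s, b)]) :
        symplecticGroup (Fin 3) (ZMod 2)) : Matrix I6 I6 (ZMod 2)) *
      ((FreeGroup.lift (spOf g hm) (FreeGroup.mk L) : symplecticGroup (Fin 3) (ZMod 2)) :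
        Matrix I6 I6 (ZMod 2))) *ᵥ v.toVec = _
    rw [← Matrix.mulVec_mulVec, ih]
    cases b
    · have h3 : (FreeGroup.mk [(s, false)] : FreeGroup ι) = (FreeGroup.of s)⁻¹ := rfl
      rw [h3, map_inv, FreeGroup.lift_apply_of, spOf_inv_val g gi hm hg, ev]
      exact toMat_mulVec _ _
    · have h3 : (FreeGroup.mk [(s, true)] : FreeGroup ι) = FreeGroup.of s := rfl
      rw [h3, FreeGroup.lift_apply_of, spOf_val, ev]
      exact toMat_mulVec _ _

include hg in
theorem lift_eq_one [DecidableEq ι] (r : FreeGroup ι)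
    (h : ∀ j : I6, ev g gi r.toWord (bas j) = bas j) :
    FreeGroup.lift (spOf g hm) r = 1 := by
  have e : r = FreeGroup.mk r.toWord := FreeGroup.mk_toWord.symm
  rw [e]
  apply Subtype.ext
  show _ = (1 : Matrix I6 I6 (ZMod 2))
  apply eq_one_of_bas
  intro j
  rw [lift_mulVec g gi hm hg, h j]

end Family

end Cfsg.Agent.Helper9.Vec6F2
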