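import Mathlib
import Cfsg.Prelude.Def_Classical
import Cfsg.Agent.Lib.Helper9.Sp62.Simple
import Cfsg.Agent.Lib.Helper9.Sp62.Vec6F2
import Cfsg.Agent.Lib.Helper9.TC2Fin
import Cfsg.Agent.Lib.Helper2.SympCard
import Cfsg.Agent.Lib.Helper2.SpCenter

set_option autoImplicit false
set_option maxRecDepth 1000000

/-! The presented group of `Sp62.Defs` is isomorphic to `PSp(6, F)` for any field `F` with two
elements. -/

namespace Cfsg.Agent.Helper9.Sp62

open Matrix Cfsg Cfsg.Agent.Helper9 Cfsg.Agent.Helper9.TC2 Cfsg.Agent.Helper9.TCData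
  Cfsg.Spor Cfsg.Agent.Helper9.Vec6F2

/-- The matrices of the two generators. -/
def g6 : Fin 2 → M6 := ![
  ⟨⟨1, 0, 1, 0, 1, 0⟩, ⟨0, 1, 0, 1, 1, 0⟩, ⟨0, 0, 1, 0, 0, 0⟩, ⟨0, 1, 0, 0, 1, 0⟩,
    ⟨1, 1, 0, 1, 1, 0⟩, ⟨0, 1, 1, 0, 1, 1⟩⟩,
  ⟨⟨0, 0, 1, 0, 0, 1⟩, ⟨1, 0, 0, 1, 1, 0⟩, ⟨1, 1, 1, 0, 1, 1⟩, ⟨0, 1, 0, 1, 1, 1⟩,
    ⟨0, 1, 0, 0, 1, 0⟩, ⟨0, 1, 0, 1, 1, 0⟩⟩]

/-- The matrices of the inverses of the two generators. -/
def gi6 : Fin 2 → M6 := ![
  ⟨⟨0, 1, 0, 0, 1, 0⟩, ⟨1, 1, 1, 1, 1, 0⟩, ⟨0, 0, 1, 0, 0, 0⟩, ⟨0, 1, 0, 1, 0, 0⟩,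
    ⟨1, 1, 1, 0, 1, 0⟩, ⟨0, 0, 1, 1, 0, 1⟩⟩,
  ⟨⟨1, 0, 1, 0, 1, 0⟩, ⟨1, 1, 1, 0, 1, 1⟩, ⟨1, 0, 0, 1, 0, 1⟩, ⟨0, 0, 0, 0, 1, 1⟩,
    ⟨1, 1, 1, 0, 0, 1⟩, ⟨0, 0, 0, 1, 0, 1⟩⟩]

theorem g6_inv : ∀ s : Fin 2, ∀ j : I6, (g6 s).app ((gi6 s).app (bas j)) = bas j := by
  decide +kernel

theorem g6_mem : ∀ s : Fin 2, (g6 s).toMat ∈ symplecticGroup (Fin 3) (ZMod 2) := by
  intro s
  rw [SymplecticGroup.mem_iff]
  revert s
  decide +kernel

/-- The matrices of the generators, over the prime field. -/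
def U6 : Fin 2 → symplecticGroup (Fin 3) (ZMod 2) := spOf g6 g6_mem

theorem rel_extra : ∀ r ∈ S62B0.extra, ∀ j : I6, ev g6 gi6 r.toWord (bas j) = bas j := by
  decide +kernel

theorem g6_entry : (g6 0).toMat (.inl 0) (.inl 2) ≠ 0 := by decide +kernel

theorem rels2 : ∀ r ∈ relsG, FreeGroup.lift U6 r = 1 := by
  intro r hr
  exact lift_eq_one g6 gi6 g6_mem g6_inv r (rel_extra r (relsG_cases hr))

/-- The homomorphism to the symplectic group over the prime field. -/
noncomputable def theta2 : PS62 →* symplecticGroup (Fin 3) (ZMod 2) :=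
  PresentedGroup.toGroup rels2

theorem theta2_of (s : Fin 2) : theta2 (PresentedGroup.of s) = U6 s :=
  PresentedGroup.toGroup.of rels2

theorem U6_ne_one : U6 0 ≠ 1 := by
  intro h
  have h1 := congrArg (fun A : symplecticGroup (Fin 3) (ZMod 2) =>
    (A : Matrix I6 I6 (ZMod 2)) (.inl 0) (.inl 2)) h
  exact g6_entry h1

theorem theta2_injective : Function.Injective theta2 := by
  have := s62_simple.1
  refine injective_of_simple theta2 (PresentedGroup.of 0) ?_
  rw [theta2_of]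
  exact U6_ne_one

section Generic

variable {F : Type*} [Field F] [Fintype F]

theorem card_sp (hF : Fintype.card F = 2) :
    Nat.card (symplecticGroup (Fin 3) F) = 1451520 := by
  rw [Cfsg.Agent.Helper2.Symp.card_symplecticGroup, hF]
  norm_num [Finset.prod_range_succ]

theorem center_eq_bot (hF : Fintype.card F = 2) :
    Subgroup.center (symplecticGroup (Fin 3) F) = ⊥ := by
  apply Subgroup.card_eq_one.1
  rw [Cfsg.Agent.Helper2.Sp.card_center, hF]
  rfl

/-- The map of symplectic groups given by a homomorphism of fields. -/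
def spMap {K L : Type*} [Field K] [Field L] (f : K →+* L) :
    symplecticGroup (Fin 3) K →* symplecticGroup (Fin 3) L where
  toFun A := ⟨f.mapMatrix A.1, by
    have h := SymplecticGroup.mem_iff.1 A.2
    rw [SymplecticGroup.mem_iff]
    have hJ : f.mapMatrix (J (Fin 3) K) = J (Fin 3) L := by
      ext i j
      rcases i with i | i <;> rcases j with j | j <;>
        simp [J, Matrix.fromBlocks, Matrix.one_apply, apply_ite]
    have hT : (f.mapMatrix A.1)ᵀ = f.mapMatrix (A.1)ᵀ := Matrix.transpose_map.symm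
    rw [hT, ← hJ, ← map_mul, ← map_mul, h]⟩
  map_one' := Subtype.ext (map_one f.mapMatrix)
  map_mul' A B := Subtype.ext (map_mul f.mapMatrix A.1 B.1)

theorem spMap_injective {K L : Type*} [Field K] [Field L] (f : K →+* L) :
    Function.Injective (spMap f) := by
  intro A B h
  apply Subtype.ext
  have h1 := congrArg Subtype.val h
  exact Matrix.map_injective f.injective h1

variable (hF : Fintype.card F = 2)

/-- The prime field is the field `F`. -/
noncomputable def eF : ZMod 2 ≃+* F :=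
  FiniteField.ringEquivOfCardEq ((ZMod.card 2).trans hF.symm)

/-- The homomorphism to the projective symplectic group. -/
noncomputable def theta : PS62 →* Cfsg.PSp 3 F :=
  (QuotientGroup.mk' (Subgroup.center (symplecticGroup (Fin 3) F))).comp
    ((spMap (eF hF).toRingHom).comp theta2)

theorem theta_injective : Function.Injective (theta hF) := by
  have h1 : Function.Injective
      (QuotientGroup.mk' (Subgroup.center (symplecticGroup (Fin 3) F))) := by
    rw [← MonoidHom.ker_eq_bot_iff, QuotientGroup.ker_mk', center_eq_bot hF]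
  exact h1.comp ((spMap_injective _).comp theta2_injective)

include hF in
theorem card_PSp : Nat.card (Cfsg.PSp 3 F) = 1451520 := by
  have h := Subgroup.card_eq_card_quotient_mul_card_subgroup
    (Subgroup.center (symplecticGroup (Fin 3) F))
  have hc : Nat.card (Subgroup.center (symplecticGroup (Fin 3) F)) = 1 := by
    rw [center_eq_bot hF, Subgroup.card_bot]
  rw [card_sp hF, hc, mul_one] at h
  exact h.symm

theorem theta_bijective : Function.Bijective (theta hF) := by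
  have : Finite PS62 := hub.1
  apply (theta_injective hF).bijective_of_nat_card_le
  rw [card_PSp hF, s62_simple.2]

/-- The isomorphism. -/
noncomputable def iso : PS62 ≃* Cfsg.PSp 3 F :=
  MulEquiv.ofBijective (theta hF) (theta_bijective hF)

end Generic

end Cfsg.Agent.Helper9.Sp62
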