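import Mathlib
import Cfsg.Agent.Lib.Helper9.Sp62.Iso

set_option autoImplicit false
set_option maxRecDepth 1000000

/-! The covering group of `Sp(6,2)` as a presented group: its map onto the simple group, the
kernel as the central subgroup generated by the images of the relators of the simple group, and
perfectness. -/

namespace Cfsg.Agent.Helper9.Sp62

open Cfsg Cfsg.Agent.Helper9 Cfsg.Agent.Helper9.TC2 Cfsg.Agent.Helper9.TCData
  Cfsg.Spor Cfsg.Agent.Helper9.Vec6F2

/-! ### The covering group and its map to the simple group -/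

theorem mkG_R (j : Fin 12) : PresentedGroup.mk relsG (R j) = 1 :=
  PresentedGroup.one_of_mem (mem_relsG (R_memG j))

theorem mkG_cm (j : Fin 12) (x : FG) : PresentedGroup.mk relsG (cm (R j) x) = 1 := by
  rw [cm, map_mul, map_mul, map_mul, map_inv, map_inv, mkG_R]
  group

theorem relsC_mkG {r : FG} (h : r ∈ relsC) : PresentedGroup.mk relsG r = 1 := by
  rcases extraC_cases (relsC_cases h) with rfl | rfl | ⟨j, rfl⟩ | ⟨j, rfl⟩ | ⟨j, rfl⟩
  · exact PresentedGroup.one_of_mem (mem_relsG u5_memG)
  · exact PresentedGroup.one_of_mem (mem_relsG v7_memG)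
  · rw [map_pow, mkG_R, one_pow]
  · exact mkG_cm _ _
  · exact mkG_cm _ _

theorem lift_of_eq_mk {rels : Set FG} (r : FG) :
    FreeGroup.lift (PresentedGroup.of (rels := rels)) r = PresentedGroup.mk rels r := by
  have h : FreeGroup.lift (PresentedGroup.of (rels := rels)) = PresentedGroup.mk rels := by
    apply FreeGroup.ext_hom
    intro a
    rw [FreeGroup.lift_apply_of]
    rfl
  rw [h]

/-- The map from the covering group to the simple group. -/
noncomputable def nu : PC →* PS62 :=
  PresentedGroup.toGroup (f := PresentedGroup.of) (by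
    intro r hr
    rw [lift_of_eq_mk]
    exact relsC_mkG hr)

theorem nu_of (a : Fin 2) : nu (PresentedGroup.of a) = PresentedGroup.of a :=
  PresentedGroup.toGroup.of _

theorem nu_mk (r : FG) : nu (PresentedGroup.mk relsC r) = PresentedGroup.mk relsG r := by
  have h : nu.comp (PresentedGroup.mk relsC) = PresentedGroup.mk relsG := by
    apply FreeGroup.ext_hom
    intro a
    rw [MonoidHom.comp_apply]
    exact nu_of a
  exact DFunLike.congr_fun h r

theorem nu_surjective : Function.Surjective nu := by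
  intro g
  obtain ⟨r, rfl⟩ := PresentedGroup.mk_surjective relsG g
  exact ⟨PresentedGroup.mk relsC r, nu_mk r⟩

/-- The images of the relators of the simple group. -/
noncomputable def z (j : Fin 12) : PC := PresentedGroup.mk relsC (R j)

theorem nu_z (j : Fin 12) : nu (z j) = 1 := by
  rw [z, nu_mk]
  exact mkG_R j

theorem z_pow (j : Fin 12) : z j ^ 144 = 1 := by
  have h := PresentedGroup.one_of_mem (mem_relsC (Rpow_mem j))
  rwa [map_pow] at h

theorem cm_mem (j : Fin 12) (a : Fin 2) : cm (R j) (FreeGroup.of a) ∈ relsC := by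
  apply mem_relsC
  fin_cases a
  · exact cmu_mem j
  · exact cmv_mem j

theorem z_comm_of (j : Fin 12) (a : Fin 2) :
    z j * PresentedGroup.of a = PresentedGroup.of a * z j := by
  have h := PresentedGroup.one_of_mem (cm_mem j a)
  rw [cm, map_mul, map_mul, map_mul, map_inv, map_inv] at h
  have h2 : PresentedGroup.mk relsC (FreeGroup.of a) = PresentedGroup.of a := rfl
  rw [h2] at h
  change z j * PresentedGroup.of a * (z j)⁻¹ * (PresentedGroup.of a)⁻¹ = 1 at h
  calc z j * PresentedGroup.of a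
      = (z j * PresentedGroup.of a * (z j)⁻¹ * (PresentedGroup.of a)⁻¹) *
        (PresentedGroup.of a * z j) := by group
    _ = PresentedGroup.of a * z j := by rw [h, one_mul]

theorem central_of_comm_of (g : PC)
    (h : ∀ a : Fin 2, g * PresentedGroup.of a = PresentedGroup.of a * g) :
    g ∈ Subgroup.center PC := by
  rw [Subgroup.mem_center_iff]
  intro x
  have hx : x ∈ Subgroup.closure (Set.range (PresentedGroup.of (rels := relsC))) := by
    rw [PresentedGroup.closure_range_of]
    exact Subgroup.mem_top x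
  induction hx using Subgroup.closure_induction with
  | mem y hy =>
    obtain ⟨a, rfl⟩ := hy
    exact (h a).symm
  | one => rw [one_mul, mul_one]
  | mul x y _ _ hx hy => rw [mul_assoc, hy, ← mul_assoc, hx, mul_assoc]
  | inv x _ hx =>
    calc x⁻¹ * g = x⁻¹ * (g * x) * x⁻¹ := by group
      _ = x⁻¹ * (x * g) * x⁻¹ := by rw [hx]
      _ = g * x⁻¹ := by group

theorem z_central (j : Fin 12) : z j ∈ Subgroup.center PC :=
  central_of_comm_of (z j) (z_comm_of j)

/-- The subgroup generated by the images of the relators. -/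
noncomputable def Z : Subgroup PC := Subgroup.closure (Set.range z)

theorem Z_le_center : Z ≤ Subgroup.center PC := by
  rw [Z, Subgroup.closure_le]
  rintro _ ⟨j, rfl⟩
  exact z_central j

instance Z_normal : Z.Normal := by
  constructor
  intro n hn g
  have h := Subgroup.mem_center_iff.1 (Z_le_center hn) g
  have e : g * n * g⁻¹ = n := by
    rw [h]
    group
  rw [e]
  exact hn

theorem Z_le_ker : Z ≤ nu.ker := by
  rw [Z, Subgroup.closure_le]
  rintro _ ⟨j, rfl⟩
  exact nu_z j

/-- The inverse map, modulo `Z`. -/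
noncomputable def psi : PS62 →* PC ⧸ Z :=
  PresentedGroup.toGroup (f := fun a => ((PresentedGroup.of a : PC) : PC ⧸ Z)) (by
    intro r hr
    have h1 : FreeGroup.lift (fun a => ((PresentedGroup.of a : PC) : PC ⧸ Z)) r =
        ((PresentedGroup.mk relsC r : PC) : PC ⧸ Z) := by
      have h : FreeGroup.lift (fun a => ((PresentedGroup.of a : PC) : PC ⧸ Z)) =
          (QuotientGroup.mk' Z).comp (PresentedGroup.mk relsC) := by
        apply FreeGroup.ext_hom
        intro a
        rw [FreeGroup.lift_apply_of]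
        rfl
      rw [h]
      rfl
    rw [h1]
    rcases extraG_cases (relsG_cases hr) with rfl | rfl | ⟨j, rfl⟩
    · rw [PresentedGroup.one_of_mem (mem_relsC u5_mem)]
      rfl
    · rw [PresentedGroup.one_of_mem (mem_relsC v7_mem)]
      rfl
    · rw [QuotientGroup.eq_one_iff]
      exact Subgroup.subset_closure ⟨j, rfl⟩)

theorem psi_comp : psi.comp nu = QuotientGroup.mk' Z := by
  apply PresentedGroup.ext
  intro a
  rw [MonoidHom.comp_apply, nu_of]
  exact PresentedGroup.toGroup.of _

theorem ker_eq : nu.ker = Z := by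
  apply le_antisymm _ Z_le_ker
  intro g hg
  have h1 : psi.comp nu g = 1 := by
    rw [MonoidHom.comp_apply, MonoidHom.mem_ker.1 hg, map_one]
  rw [psi_comp] at h1
  exact (QuotientGroup.eq_one_iff g).1 h1

theorem ker_le_center : nu.ker ≤ Subgroup.center PC := ker_eq ▸ Z_le_center

/-! ### The generators -/

/-- The image of the second generator. -/
noncomputable def vbar : PC := PresentedGroup.of 1

/-- The image of the first generator. -/
noncomputable def ubar : PC := PresentedGroup.of 0

theorem mk_v : PresentedGroup.mk relsC v = vbar := rfl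

theorem mk_u : PresentedGroup.mk relsC u = ubar := rfl

theorem vbar_pow : vbar ^ 7 = 1 := by
  have h1 := PresentedGroup.one_of_mem (mem_relsC v7_mem)
  rwa [map_pow] at h1

theorem ubar_pow : ubar ^ 5 = 1 := by
  have h1 := PresentedGroup.one_of_mem (mem_relsC u5_mem)
  rwa [map_pow] at h1

theorem g6_entry1 : (g6 1).toMat (.inl 0) (.inl 2) ≠ 0 := by decide +kernel

theorem U6_ne_one1 : U6 1 ≠ 1 := by
  intro h
  have h1 := congrArg (fun A : Matrix.symplecticGroup (Fin 3) (ZMod 2) =>
    (A : Matrix I6 I6 (ZMod 2)) (.inl 0) (.inl 2)) h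
  exact g6_entry1 h1

theorem nu_vbar_ne : nu vbar ≠ 1 := by
  rw [vbar, nu_of]
  intro h
  have h1 := theta2_of 1
  rw [h, map_one] at h1
  exact U6_ne_one1 h1.symm

theorem orderOf_nu_vbar : orderOf (nu vbar) = 7 := by
  have : Fact (Nat.Prime 7) := ⟨by norm_num⟩
  apply orderOf_eq_prime _ nu_vbar_ne
  rw [← map_pow, vbar_pow, map_one]

theorem orderOf_vbar : orderOf vbar = 7 := by
  have : Fact (Nat.Prime 7) := ⟨by norm_num⟩
  apply orderOf_eq_prime vbar_pow
  intro h
  exact nu_vbar_ne (by rw [h, map_one])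

/-- An element of the subgroup generated by the second generator that lies in the kernel is
trivial. -/
theorem zpowers_inf_ker (g : PC) (hg : g ∈ Subgroup.zpowers vbar) (hk : g ∈ nu.ker) : g = 1 := by
  obtain ⟨k, rfl⟩ := hg
  rw [MonoidHom.mem_ker, map_zpow] at hk
  have h1 : (orderOf (nu vbar) : ℤ) ∣ k := orderOf_dvd_iff_zpow_eq_one.2 hk
  rw [orderOf_nu_vbar] at h1
  have h2 : (orderOf vbar : ℤ) ∣ k := by rw [orderOf_vbar]; exact h1
  exact orderOf_dvd_iff_zpow_eq_one.1 h2

/-! ### The covering group is perfect -/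

/-- The exponent sum of the first generator. -/
def es0 : FG →* Multiplicative ℤ :=
  FreeGroup.lift (fun a : Fin 2 => if a = 0 then Multiplicative.ofAdd (1 : ℤ) else 1)

/-- The exponent sum of the second generator. -/
def es1 : FG →* Multiplicative ℤ :=
  FreeGroup.lift (fun a : Fin 2 => if a = 1 then Multiplicative.ofAdd (1 : ℤ) else 1)

theorem hom_comm {A : Type*} [CommGroup A] (ψ : FG →* A) (r : FG) :
    ψ r = ψ u ^ (es0 r).toAdd * ψ v ^ (es1 r).toAdd := by
  have h : ψ = ((zpowersHom A (ψ u)).comp es0) * ((zpowersHom A (ψ v)).comp es1) := by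
    apply FreeGroup.ext_hom
    intro a
    fin_cases a
    · simp [es0, es1, u, zpowersHom_apply]
    · simp [es0, es1, v, zpowersHom_apply]
  conv_lhs => rw [h]
  rw [MonoidHom.mul_apply, MonoidHom.comp_apply, MonoidHom.comp_apply]
  rfl

theorem es0_R0 : (es0 (R 0)).toAdd = -2 := by decide +kernel

theorem es1_R0 : (es1 (R 0)).toAdd = -6 := by decide +kernel

theorem zpow_eq_one_of_dvd {A : Type*} [Group A] {g : A} {n : ℕ} (h : g ^ n = 1) {k : ℤ}
    (hk : (n : ℤ) ∣ k) : g ^ k = 1 := by
  obtain ⟨m, rfl⟩ := hk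
  rw [zpow_mul, zpow_natCast, h, one_zpow]

theorem trivial_of_abelian {A : Type*} [CommGroup A] (a b : A) (ha : a ^ 5 = 1) (hb : b ^ 7 = 1)
    (hx : (a ^ (-2 : ℤ) * b ^ (-6 : ℤ)) ^ 144 = 1) : a = 1 ∧ b = 1 := by
  have hx' : ∀ m : ℤ, a ^ (-2 * 144 * m) * b ^ (-6 * 144 * m) = 1 := by
    intro m
    have h1 : ((a ^ (-2 : ℤ) * b ^ (-6 : ℤ)) ^ (144 : ℕ)) ^ m = 1 := by rw [hx, one_zpow]
    rw [← zpow_natCast, ← zpow_mul, mul_zpow, ← zpow_mul, ← zpow_mul] at h1
    have e1 : (-2 : ℤ) * (((144 : ℕ) : ℤ) * m) = -2 * 144 * m := by push_cast; ring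
    have e2 : (-6 : ℤ) * (((144 : ℕ) : ℤ) * m) = -6 * 144 * m := by push_cast; ring
    rw [e1, e2] at h1
    exact h1
  constructor
  · have h1 := hx' 7
    have h2 : b ^ (-6 * 144 * 7 : ℤ) = 1 := zpow_eq_one_of_dvd hb ⟨-864, by norm_num⟩
    rw [h2, mul_one] at h1
    have h3 : a ^ (-2015 : ℤ) = 1 := zpow_eq_one_of_dvd ha ⟨-403, by norm_num⟩
    have h4 : a = a ^ (-2015 : ℤ) * (a ^ (-2 * 144 * 7 : ℤ))⁻¹ := by
      rw [← zpow_neg, ← zpow_add]
      norm_num
    rw [h4, h3, h1, inv_one, mul_one]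
  · have h1 := hx' 5
    have h2 : a ^ (-2 * 144 * 5 : ℤ) = 1 := zpow_eq_one_of_dvd ha ⟨-288, by norm_num⟩
    rw [h2, one_mul] at h1
    have h3 : b ^ (-4319 : ℤ) = 1 := zpow_eq_one_of_dvd hb ⟨-617, by norm_num⟩
    have h4 : b = b ^ (-4319 : ℤ) * (b ^ (-6 * 144 * 5 : ℤ))⁻¹ := by
      rw [← zpow_neg, ← zpow_add]
      norm_num
    rw [h4, h3, h1, inv_one, mul_one]

theorem commutator_eq_top : commutator PC = ⊤ := by
  rw [← Abelianization.ker_of]
  set φ : PC →* Abelianization PC := Abelianization.of with hφ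
  have h0 : φ (z 0) = φ ubar ^ (-2 : ℤ) * φ vbar ^ (-6 : ℤ) := by
    have h := hom_comm (φ.comp (PresentedGroup.mk relsC)) (R 0)
    rw [es0_R0, es1_R0] at h
    exact h
  have hx : (φ ubar ^ (-2 : ℤ) * φ vbar ^ (-6 : ℤ)) ^ 144 = 1 := by
    rw [← h0, ← map_pow, z_pow, map_one]
  obtain ⟨hu, hv⟩ := trivial_of_abelian (φ ubar) (φ vbar)
    (by rw [← map_pow, ubar_pow, map_one]) (by rw [← map_pow, vbar_pow, map_one]) hx
  rw [eq_top_iff, ← PresentedGroup.closure_range_of, Subgroup.closure_le]
  rintro _ ⟨a, rfl⟩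
  rw [SetLike.mem_coe, MonoidHom.mem_ker]
  fin_cases a
  · exact hu
  · exact hv

end Cfsg.Agent.Helper9.Sp62
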