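import Mathlib
import Cfsg.Agent.Lib.Helper9.Sp62.Cover
import Cfsg.Agent.Lib.Helper9.Sp62.Hub
import Cfsg.Agent.Lib.Helper9.TCData.S62P0.Comb

set_option autoImplicit false
set_option maxRecDepth 1000000

/-! The kernel of the covering group of `Sp(6,2)`: relations among the central generators from the
labelled coset table. -/

namespace Cfsg.Agent.Helper9.Sp62

open Cfsg Cfsg.Agent.Helper9 Cfsg.Agent.Helper9.TC2 Cfsg.Agent.Helper9.TCData
  Cfsg.Spor Cfsg.Agent.Helper9.LTC Cfsg.Agent.Helper9.LTCM Cfsg.Agent.Helper9.LTCP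
open scoped IsMulCommutative

/-- The columns in the covering group. -/
noncomputable def eC : ℕ → PC := eCol [] extraC cols

/-- The subgroup of the covering group. -/
abbrev H : Subgroup PC := coxH [] extraC {s | s ∈ [v]}

theorem H_eq : H = Subgroup.zpowers vbar := by
  have hS : ({s | s ∈ [v]} : Set FG) = {v} := by
    ext s
    simp
  unfold H coxH
  rw [hS, ← Subgroup.zpowers_eq_closure, MonoidHom.map_zpowers]
  rfl

/-- The central elements. -/
noncomputable def zc (j : ℕ) : Subgroup.center PC :=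
  if h : j < 12 then ⟨z ⟨j, h⟩, z_central _⟩ else 1

theorem zc_lt {j : ℕ} (h : j < 12) : (zc j : PC) = z ⟨j, h⟩ := by
  unfold zc
  rw [dif_pos h]

theorem zc_pow (i : ℕ) : zc i ^ (144 : ℤ) = 1 := by
  by_cases h : i < 12
  · apply Subtype.ext
    rw [Subgroup.coe_zpow, zc_lt h]
    have e : z ⟨i, h⟩ ^ (144 : ℤ) = z ⟨i, h⟩ ^ (144 : ℕ) := zpow_natCast _ 144
    rw [e, z_pow]
    rfl
  · unfold zc
    rw [dif_neg h, one_zpow]

theorem zc_mem (j : ℕ) : (zc j : PC) ∈ Z := by
  by_cases h : j < 12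
  · rw [zc_lt h]
    exact Subgroup.subset_closure ⟨_, rfl⟩
  · unfold zc
    rw [dif_neg h]
    exact Z.one_mem

theorem zeta_mem (f : ℕ → ℤ) : (zeta zc 12 f : PC) ∈ Z := by
  have h : zeta zc 12 f ∈ Z.comap (Subgroup.center PC).subtype := by
    unfold zeta
    apply Subgroup.prod_mem
    intro i _
    apply Subgroup.zpow_mem
    exact zc_mem i
  exact h

/-! ### The relators -/

theorem hrelW' : S62P0.relWords = [u ^ 5, v ^ 7, R 0, R 1, R 2, R 3, R 4, R 5, R 6, R 7, R 8,
    R 9, R 10, R 11].map (colWord cols) := by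
  rw [hrelW, extraG_eq']

theorem prod_eC (r : FG) :
    ((colWord cols r).map eC).prod = PresentedGroup.mk relsC r :=
  prod_colWord_eCol colsOK r

theorem hrel_one {r : FG} (hr : r ∈ extraC) :
    ((colWord cols r).map eC).prod = (zeta zc 12 (vec []) : PC) := by
  rw [prod_eC, PresentedGroup.one_of_mem (mem_relsC hr), vec_nil, zeta_zero]
  rfl

theorem hrel_z (j : Fin 12) :
    ((colWord cols (R j)).map eC).prod = (zeta zc 12 (vec (unitV j)) : PC) := by
  rw [prod_eC, vec_unitV, zeta_single _ _ (by omega), zc_lt j.2]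
  rfl

theorem hrel (j : ℕ) : ((S62P0.relWords.getD j []).map eC).prod =
    (zeta zc S62P0.tab.d (vec (S62P0.relLabs.getD j [])) : PC) := by
  rw [hrelW', hrelL]
  by_cases hj : j < 14
  · interval_cases j
    · exact hrel_one u5_mem
    · exact hrel_one v7_mem

    · exact hrel_z 0
    · exact hrel_z 1
    · exact hrel_z 2
    · exact hrel_z 3
    · exact hrel_z 4
    · exact hrel_z 5
    · exact hrel_z 6
    · exact hrel_z 7
    · exact hrel_z 8
    · exact hrel_z 9
    · exact hrel_z 10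
    · exact hrel_z 11
  · rw [List.getD_eq_default _ _ (by simp; omega), List.getD_eq_default _ _ (by simp; omega),
      vec_nil, zeta_zero]
    rfl

/-- The interpretation of the labelled table. -/
noncomputable def interp : LInterp H S62P0.tab where
  e := eC
  zc := zc
  e_inv := by
    intro c hc
    have hl : c < cols.length := hc
    rw [inv_eq c hc, eC, eCol_invCol colsOK hl, mul_inv_cancel]
  rot_ok := rot_ok_of_chkP S62P0.tab eC zc S62P0.relWords S62P0.relLabs S62P0.rotSrc
    S62P0.rot_src hrel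
  hcols_ok := by
    intro c hc
    have hc2 : c = 2 := by simpa [S62P0.tab, S62P0.ptab, LTCP.PTab.toLTab] using hc
    subst hc2
    have hl : 2 < cols.length := by decide
    rw [eC, eCol_of_lt hl]
    exact Subgroup.mem_map_of_mem _ (Subgroup.subset_closure (by simp [cols, S62B0.cols, v]; rfl))
  free_ok := by
    intro i hi
    exact absurd hi (by show ¬ (12 + i < 12); omega)

theorem zeta_rho : ∀ ρ ∈ S62P0.rhos, zeta zc 12 (vec ρ) = 1 := by
  intro ρ hρ
  obtain ⟨i, s, hs, h⟩ := S62P0.rel_all ρ hρ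
  have h1 : (zeta zc 12 (vec ρ) : PC) ∈ H :=
    relVecM_sound interp zc_pow S62P0.h0 S62P0.hE hs h
  have h2 : (zeta zc 12 (vec ρ) : PC) ∈ Z := zeta_mem _
  apply Subtype.ext
  rw [H_eq] at h1
  rw [← ker_eq] at h2
  exact zpowers_inf_ker _ h1 h2

/-! ### The relations among the central generators -/

theorem zeta_tgt {i : ℕ} (hi : i < 12) : zeta zc 12 (vec (S62P0.tgts.getD i [])) = 1 := by
  have h := zeta_vcomb zc 12 (S62P0.combs.getD i []) S62P0.rhos zeta_rho
  rwa [zeta_of_veqM zc 12 zc_pow (S62P0.comb_ok i hi)] at h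

theorem zeta_unit {j : ℕ} (hj : j < 12) : (zeta zc 12 (vec (unitV j)) : PC) = z ⟨j, hj⟩ := by
  rw [vec_unitV, zeta_single _ _ hj, zc_lt hj]

theorem z_eq_one_of {j : ℕ} (hj : j < 12) (h : S62P0.tgts.getD j [] = unitV j) :
    z ⟨j, hj⟩ = 1 := by
  have h1 := zeta_tgt hj
  rw [h] at h1
  rw [← zeta_unit hj, h1]
  rfl

theorem z_eq_z1_of {j : ℕ} (hj : j < 12) (h : S62P0.tgts.getD j [] = vsub (unitV j) (unitV 1)) :
    z ⟨j, hj⟩ = z 1 := by
  have h1 := zeta_tgt hj
  rw [h, vec_vsub, zeta_sub] at h1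
  have h2 := congrArg (fun x : Subgroup.center PC => (x : PC)) h1
  simp only [Subgroup.coe_mul, Subgroup.coe_inv, Subgroup.coe_one] at h2
  rw [zeta_unit hj, zeta_unit (by norm_num : 1 < 12)] at h2
  exact mul_inv_eq_one.1 h2

theorem z1_sq : z 1 ^ 2 = 1 := by
  have h1 := zeta_tgt (by norm_num : 1 < 12)
  have e : S62P0.tgts.getD 1 [] = vsmul 2 (unitV 1) := rfl
  rw [e, vec_vsmul, zeta_smul] at h1
  have h2 := congrArg (fun x : Subgroup.center PC => (x : PC)) h1
  simp only [Subgroup.coe_zpow, Subgroup.coe_one] at h2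
  rw [zeta_unit (by norm_num : 1 < 12)] at h2
  have h3 : z 1 ^ (2 : ℤ) = 1 := h2
  rw [← h3]
  exact (zpow_natCast (z 1) 2).symm

/-- Every central generator is a power of the generator `1`. -/
theorem z_mem_zpowers (j : Fin 12) : z j ∈ Subgroup.zpowers (z 1) := by
  fin_cases j
  · rw [show z ⟨0, by norm_num⟩ = 1 from z_eq_one_of (by norm_num) rfl]
    exact Subgroup.one_mem _
  · exact Subgroup.mem_zpowers _
  · rw [show z ⟨2, by norm_num⟩ = 1 from z_eq_one_of (by norm_num) rfl]
    exact Subgroup.one_mem _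
  · rw [show z ⟨3, by norm_num⟩ = z 1 from z_eq_z1_of (by norm_num) rfl]
    exact Subgroup.mem_zpowers _
  · rw [show z ⟨4, by norm_num⟩ = z 1 from z_eq_z1_of (by norm_num) rfl]
    exact Subgroup.mem_zpowers _
  · rw [show z ⟨5, by norm_num⟩ = 1 from z_eq_one_of (by norm_num) rfl]
    exact Subgroup.one_mem _
  · rw [show z ⟨6, by norm_num⟩ = 1 from z_eq_one_of (by norm_num) rfl]
    exact Subgroup.one_mem _
  · rw [show z ⟨7, by norm_num⟩ = 1 from z_eq_one_of (by norm_num) rfl]
    exact Subgroup.one_mem _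
  · rw [show z ⟨8, by norm_num⟩ = 1 from z_eq_one_of (by norm_num) rfl]
    exact Subgroup.one_mem _
  · rw [show z ⟨9, by norm_num⟩ = 1 from z_eq_one_of (by norm_num) rfl]
    exact Subgroup.one_mem _
  · rw [show z ⟨10, by norm_num⟩ = 1 from z_eq_one_of (by norm_num) rfl]
    exact Subgroup.one_mem _
  · rw [show z ⟨11, by norm_num⟩ = z 1 from z_eq_z1_of (by norm_num) rfl]
    exact Subgroup.mem_zpowers _

theorem Z_le_zpowers : Z ≤ Subgroup.zpowers (z 1) := by
  rw [Z, Subgroup.closure_le]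
  rintro _ ⟨j, rfl⟩
  exact z_mem_zpowers j

end Cfsg.Agent.Helper9.Sp62
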