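import Mathlib
import Cfsg.Agent.Lib.Helper9.Sp62.CoverU
import Cfsg.Agent.Lib.Helper9.TCData.S62M0.Main
import Cfsg.Agent.Lib.Helper20.ZModHom

set_option autoImplicit false
set_option maxRecDepth 1000000

/-! The kernel of the covering group of `Sp(6,2)` has order 2: the lower bound comes from a
permutation representation of degree 240 in which a central generator acts non trivially. -/

namespace Cfsg.Agent.Helper9.Sp62

open Cfsg Cfsg.Agent.Helper9 Cfsg.Agent.Helper9.TC2 Cfsg.Agent.Helper9.TCData Cfsg.Spor

/-- The columns as permutations. -/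
noncomputable def E (c : ℕ) : Equiv.Perm ℕ := sigPerm S62M0.permOK c

/-- Words acting trivially in the permutation representation. -/
def fixList : List FG := [u ^ 5, v ^ 7] ++ (List.finRange 12).map (fun j => R j * R j) ++
  (List.finRange 12).map (fun j => cm (R j) u) ++ (List.finRange 12).map (fun j => cm (R j) v)

theorem hfixW : S62M0.fixWords = fixList.map (colWord cols) := by
  decide +kernel

theorem hzW : S62M0.zWord = colWord cols (R 1) := by
  decide +kernel

/-- The generators as permutations. -/
noncomputable def fP (a : Fin 2) : Equiv.Perm ℕ := E (cols.idxOf (a, true))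

theorem idx_lt (x : Fin 2) : cols.idxOf (x, true) < S62M0.tab.k := by
  fin_cases x <;> decide

theorem idx_false (x : Fin 2) :
    cols.idxOf (x, false) = S62M0.tab.inv (cols.idxOf (x, true)) := by
  fin_cases x <;> rfl

theorem lift_fP (r : FG) : FreeGroup.lift fP r = ((colWord cols r).map E).prod := by
  symm
  apply prod_colWord colsOK (FreeGroup.lift fP) E
  · intro x
    rw [FreeGroup.lift_apply_of]
    rfl
  · intro x _
    rw [FreeGroup.lift_apply_of, idx_false]
    exact sigPerm_inv S62M0.permOK (idx_lt x)
  · intro x hx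
    exact absurd (by fin_cases x <;> decide) hx

theorem word_lt (r : FG) : ∀ c ∈ colWord cols r, c < S62M0.tab.k :=
  colWord_lt colsOK r

theorem lift_eq_one_of_mem {r : FG} (h : r ∈ fixList) : FreeGroup.lift fP r = 1 := by
  rw [lift_fP]
  exact prod_sigPerm_eq_one S62M0.permOK S62M0.hFix
    (by rw [hfixW]; exact List.mem_map_of_mem h) (word_lt r)

theorem u5_memF : u ^ 5 ∈ fixList := by
  unfold fixList
  simp

theorem v7_memF : v ^ 7 ∈ fixList := by
  unfold fixList
  simp

theorem RR_memF (j : Fin 12) : R j * R j ∈ fixList := by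
  unfold fixList
  simp only [List.mem_append, List.mem_map, List.mem_finRange, true_and]
  exact Or.inl (Or.inl (Or.inr ⟨j, rfl⟩))

theorem cmu_memF (j : Fin 12) : cm (R j) u ∈ fixList := by
  unfold fixList
  simp only [List.mem_append, List.mem_map, List.mem_finRange, true_and]
  exact Or.inl (Or.inr ⟨j, rfl⟩)

theorem cmv_memF (j : Fin 12) : cm (R j) v ∈ fixList := by
  unfold fixList
  simp only [List.mem_append, List.mem_map, List.mem_finRange, true_and]
  exact Or.inr ⟨j, rfl⟩

/-- The permutation representation of the covering group. -/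
noncomputable def Psi : PC →* Equiv.Perm ℕ :=
  PresentedGroup.toGroup (f := fP) (by
    intro r hr
    rcases extraC_cases (relsC_cases hr) with rfl | rfl | ⟨j, rfl⟩ | ⟨j, rfl⟩ | ⟨j, rfl⟩
    · exact lift_eq_one_of_mem u5_memF
    · exact lift_eq_one_of_mem v7_memF
    · have h2 : FreeGroup.lift fP (R j) ^ 2 = 1 := by
        rw [pow_two, ← map_mul]
        exact lift_eq_one_of_mem (RR_memF j)
      rw [map_pow, show 144 = 2 * 72 from rfl, pow_mul, h2, one_pow]
    · exact lift_eq_one_of_mem (cmu_memF j)
    · exact lift_eq_one_of_mem (cmv_memF j))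

theorem Psi_mk (r : FG) : Psi (PresentedGroup.mk relsC r) = FreeGroup.lift fP r := rfl

theorem z1_ne_one : z 1 ≠ 1 := by
  intro h
  have h1 : Psi (z 1) 0 = 195 := by
    rw [z, Psi_mk, lift_fP, show E = sigPerm S62M0.permOK from rfl,
      (prod_sigPerm_apply S62M0.permOK _ (word_lt _) (by decide : 0 < S62M0.tab.n)).1, ← hzW]
    exact S62M0.hz
  rw [h, map_one] at h1
  exact absurd h1 (by decide)

/-! ### The order of the kernel -/

theorem Z_eq : Z = Subgroup.zpowers (z 1) := by
  apply le_antisymm Z_le_zpowers
  rw [Subgroup.zpowers_le]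
  exact Subgroup.subset_closure ⟨1, rfl⟩

theorem orderOf_z1 : orderOf (z 1) = 2 := by
  have : Fact (Nat.Prime 2) := ⟨Nat.prime_two⟩
  exact orderOf_eq_prime z1_sq z1_ne_one

theorem card_Z : Nat.card Z = 2 := by
  rw [Z_eq, Nat.card_zpowers, orderOf_z1]

theorem card_ker : Nat.card nu.ker = 2 := by
  rw [ker_eq]
  exact card_Z

/-- The kernel is cyclic of order 2. -/
theorem ker_structure : Nonempty (nu.ker ≃* Multiplicative (ZMod 2)) :=
  Cfsg.Agent.Helper20.nonempty_mulEquiv_zmod_two card_ker

instance finite_PC : Finite PC := by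
  have h1 : Finite nu.ker := Nat.finite_of_card_ne_zero (by rw [card_ker]; norm_num)
  have h2 : Finite (PC ⧸ nu.ker) := by
    have : Finite PS62 := hub.1
    exact Finite.of_equiv _
      (QuotientGroup.quotientKerEquivOfSurjective nu nu_surjective).toEquiv.symm
  exact Finite.of_subgroup_quotient nu.ker

end Cfsg.Agent.Helper9.Sp62
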