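import Mathlib
import Cfsg.Prelude.Def_KGroupFacts
import Cfsg.Agent.Lib.Helper9.Sp62.CoverL
import Cfsg.Agent.Lib.Helper20.SchurExp3

set_option autoImplicit false
set_option maxRecDepth 1000000

/-! The generators of the covering group of `Sp(6,2)` lift to every stem extension of
`PSp(6, F)`, `F` a field with two elements. -/

namespace Cfsg.Agent.Helper9.Sp62

open Cfsg Cfsg.Agent.Helper9 Cfsg.Agent.Helper9.TC2 Cfsg.Agent.Helper9.TCData Cfsg.Spor

/-! ### The relators hold for suitable lifts -/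

section Abstract

variable {Γ : Type*} [Group Γ]

/-- A pair of elements as a family. -/
def tt (a b : Γ) : Fin 2 → Γ := ![a, b]

theorem lift_u (a b : Γ) : FreeGroup.lift (tt a b) u = a := by
  rw [u, FreeGroup.lift_apply_of]
  rfl

theorem lift_v (a b : Γ) : FreeGroup.lift (tt a b) v = b := by
  rw [v, FreeGroup.lift_apply_of]
  rfl

theorem lift_rels (K : Subgroup Γ) (hK : K ≤ Subgroup.center Γ) (h144 : ∀ κ ∈ K, κ ^ 144 = 1)
    (tu tv : Γ) (h5 : tu ^ 5 = 1) (h7 : tv ^ 7 = 1)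
    (hR : ∀ j, FreeGroup.lift (tt tu tv) (R j) ∈ K) :
    ∀ r ∈ relsC, FreeGroup.lift (tt tu tv) r = 1 := by
  have hcm : ∀ (j : Fin 12) (x : FG),
      FreeGroup.lift (tt tu tv) (cm (R j) x) = 1 := by
    intro j x
    rw [cm, map_mul, map_mul, map_mul, map_inv, map_inv]
    have h := (Subgroup.mem_center_iff.1 (hK (hR j))) (FreeGroup.lift (tt tu tv) x)
    rw [← h]
    group
  intro r hr
  rcases extraC_cases (relsC_cases hr) with rfl | rfl | ⟨j, rfl⟩ | ⟨j, rfl⟩ | ⟨j, rfl⟩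
  · rw [map_pow, lift_u, h5]
  · rw [map_pow, lift_v, h7]
  · rw [map_pow]
    exact h144 _ (hR j)
  · exact hcm _ _
  · exact hcm _ _

end Abstract

/-! ### Lifting to a stem extension -/

theorem dvd_of_sq_dvd : ∀ e < 1205, e ^ 2 ∣ 1451520 → e ∣ 144 := by decide +kernel

theorem pow_eq_one_of_sq_dvd' {Γ : Type*} [Group Γ] [Finite Γ] (Z : Subgroup Γ)
    (hZ : Z ≤ Subgroup.center Γ) (hZ' : Z ≤ commutator Γ) (n : ℕ)
    (hn : ∀ e : ℕ, e ^ 2 ∣ Z.index → e ∣ n) : ∀ κ ∈ Z, κ ^ n = 1 := by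
  letI instC : CommGroup Z := { (inferInstance : Group Z) with
    mul_comm := fun a b => Subtype.ext ((Subgroup.mem_center_iff.1 (hZ b.2)) a.1) }
  have hexp := Cfsg.Agent.Helper20.exponent_sq_dvd_index Z hZ hZ' (A := Z) (MulEquiv.refl _)
  have h1 := hn _ hexp
  have h2 := Monoid.exponent_dvd_iff_forall_pow_eq_one.1 h1
  intro κ hκ
  have h3 := congrArg Subtype.val (h2 ⟨κ, hκ⟩)
  exact h3

section Lift

universe w

variable {F : Type w} [Field F] [Fintype F] (hF : Fintype.card F = 2)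

/-- The map from the covering group to the projective symplectic group. -/
noncomputable def pi : PC →* Cfsg.PSp 3 F :=
  (iso hF).toMonoidHom.comp nu

theorem pi_apply (g : PC) : pi hF g = iso hF (nu g) := rfl

theorem pi_surjective : Function.Surjective (pi hF) :=
  (iso hF).surjective.comp nu_surjective

theorem pi_ker : (pi hF).ker = nu.ker := by
  ext g
  rw [MonoidHom.mem_ker, MonoidHom.mem_ker, pi_apply]
  exact (iso hF).map_eq_one_iff

theorem exists_lift {Γ : Type w} [Group Γ] [Finite Γ]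
    (σ : Γ →* Cfsg.PSp 3 F) (hσ : Cfsg.IsStemExtension σ) :
    ∃ t : Fin 2 → Γ, (∀ a, σ (t a) = pi hF (PresentedGroup.of a)) ∧
      ∀ r ∈ relsC, FreeGroup.lift t r = 1 := by
  obtain ⟨hs, hK, hK'⟩ := hσ
  -- the exponent of the kernel
  have hcardG : Nat.card (Cfsg.PSp 3 F) = 1451520 := card_PSp hF
  have hidx : σ.ker.index = 1451520 := by
    rw [Subgroup.index_ker, MonoidHom.range_eq_top.mpr hs, Subgroup.card_top, hcardG]
  have h144 : ∀ κ ∈ σ.ker, κ ^ 144 = 1 := by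
    apply pow_eq_one_of_sq_dvd' σ.ker hK hK' 144
    intro e he
    rw [hidx] at he
    apply dvd_of_sq_dvd _ _ he
    by_contra hlt
    have h1 : 1205 ≤ e := by omega
    have h2 : 1205 ^ 2 ≤ e ^ 2 := Nat.pow_le_pow_left h1 2
    have h3 := Nat.le_of_dvd (by norm_num) he
    omega
  -- the lifts
  obtain ⟨u₀, hu₀⟩ := hs (pi hF ubar)
  obtain ⟨v₀, hv₀⟩ := hs (pi hF vbar)
  have hpu : pi hF ubar ^ 5 = 1 := by rw [← map_pow, ubar_pow, map_one]
  have hpv : pi hF vbar ^ 7 = 1 := by rw [← map_pow, vbar_pow, map_one]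
  have hσu : σ (u₀ ^ 576) = pi hF ubar := by
    rw [map_pow, hu₀]
    calc pi hF ubar ^ 576 = (pi hF ubar ^ 5) ^ 115 * pi hF ubar := by rw [← pow_mul, ← pow_succ]
      _ = pi hF ubar := by rw [hpu, one_pow, one_mul]
  have hσv : σ (v₀ ^ 288) = pi hF vbar := by
    rw [map_pow, hv₀]
    calc pi hF vbar ^ 288 = (pi hF vbar ^ 7) ^ 41 * pi hF vbar := by rw [← pow_mul, ← pow_succ]
      _ = pi hF vbar := by rw [hpv, one_pow, one_mul]
  have ht : ∀ a, σ (tt (u₀ ^ 576) (v₀ ^ 288) a) = pi hF (PresentedGroup.of a) := by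
    intro a
    fin_cases a
    · exact hσu
    · exact hσv
  have hcomp : ∀ r : FG, σ (FreeGroup.lift (tt (u₀ ^ 576) (v₀ ^ 288)) r) =
      pi hF (PresentedGroup.mk relsC r) := by
    have h : σ.comp (FreeGroup.lift (tt (u₀ ^ 576) (v₀ ^ 288))) =
        (pi hF).comp (PresentedGroup.mk relsC) := by
      apply FreeGroup.ext_hom
      intro a
      rw [MonoidHom.comp_apply, MonoidHom.comp_apply, FreeGroup.lift_apply_of]
      exact ht a
    exact fun r => DFunLike.congr_fun h r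
  refine ⟨tt (u₀ ^ 576) (v₀ ^ 288), ht, ?_⟩
  apply lift_rels σ.ker hK h144
  · have h1 : u₀ ^ 5 ∈ σ.ker := by rw [MonoidHom.mem_ker, map_pow, hu₀, hpu]
    calc (u₀ ^ 576) ^ 5 = ((u₀ ^ 5) ^ 144) ^ 4 := by rw [← pow_mul, ← pow_mul, ← pow_mul]
      _ = 1 := by rw [h144 _ h1, one_pow]
  · have h1 : v₀ ^ 7 ∈ σ.ker := by rw [MonoidHom.mem_ker, map_pow, hv₀, hpv]
    calc (v₀ ^ 288) ^ 7 = ((v₀ ^ 7) ^ 144) ^ 2 := by rw [← pow_mul, ← pow_mul, ← pow_mul]
      _ = 1 := by rw [h144 _ h1, one_pow]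
  · intro j
    rw [MonoidHom.mem_ker, hcomp, pi_apply]
    have : nu (PresentedGroup.mk relsC (R j)) = 1 := nu_z j
    rw [this, map_one]

end Lift

end Cfsg.Agent.Helper9.Sp62
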